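import Mathlib
import Cfsg.Agent.Lib.Helper24.ES3.Defs

set_option autoImplicit false

namespace Cfsg.Agent.Lib.Helper24.ES3

variable {G : Type*} [Group G]

open scoped Pointwise

/-- C2 -/
theorem sylow_conj_in [Finite G] {p : ℕ} [Fact p.Prime] (P : Sylow p G) (K : Subgroup G)
    (hPK : (P : Subgroup G) ≤ K) (d : G) (hd : ∀ u ∈ (P : Subgroup G), d * u * d⁻¹ ∈ K) :
    ∃ k ∈ K, k⁻¹ * d ∈ Subgroup.normalizer ((P : Subgroup G) : Set G) := by
  have hQK : ((d • P : Sylow p G) : Subgroup G) ≤ K := by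
    intro x hx
    have hx' : x ∈ MulAut.conj d • (P : Subgroup G) := hx
    obtain ⟨u, hu, rfl⟩ := hx'
    exact hd u hu
  obtain ⟨k, hk⟩ := MulAction.exists_smul_eq K (P.subtype hPK) ((d • P).subtype hQK)
  rw [Sylow.smul_subtype] at hk
  have h2 : (k • P : Sylow p G) = d • P := Sylow.subtype_injective hk
  refine ⟨k, k.2, ?_⟩
  refine (Sylow.smul_eq_iff_mem_normalizer (P := P)).1 ?_
  rw [mul_smul, ← h2]
  show (k : G)⁻¹ • ((k : G) • P) = P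
  rw [inv_smul_smul]

/-- C5 -/
theorem psub_conj_in [Finite G] {p : ℕ} [Fact p.Prime] (P : Sylow p G) (K : Subgroup G)
    (hPK : (P : Subgroup G) ≤ K) (q : G) (hq : q ∈ K) (hqp : q ^ p = 1) :
    ∃ c ∈ K, c * q * c⁻¹ ∈ (P : Subgroup G) := by
  have hpg : IsPGroup p (Subgroup.zpowers (⟨q, hq⟩ : K)) := by
    rintro ⟨x, hx⟩
    obtain ⟨m, rfl⟩ := Subgroup.mem_zpowers_iff.1 hx
    refine ⟨1, ?_⟩
    apply Subtype.ext
    apply Subtype.ext
    simp only [pow_one, Subgroup.coe_pow, Subgroup.coe_zpow, Subgroup.coe_one]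
    rw [← zpow_natCast, ← zpow_mul, mul_comm, zpow_mul, zpow_natCast, hqp, one_zpow]
  obtain ⟨Q, hQ⟩ := hpg.exists_le_sylow
  obtain ⟨k, hk⟩ := MulAction.exists_smul_eq K Q (P.subtype hPK)
  refine ⟨k, k.2, ?_⟩
  have h1 : (⟨q, hq⟩ : K) ∈ (Q : Subgroup K) := hQ (Subgroup.mem_zpowers _)
  have h2 : k * ⟨q, hq⟩ * k⁻¹ ∈ ((k • Q : Sylow p K) : Subgroup K) := by
    show k * ⟨q, hq⟩ * k⁻¹ ∈ MulAut.conj k • (Q : Subgroup K)
    exact ⟨_, h1, rfl⟩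
  rw [hk, Sylow.coe_subtype, Subgroup.mem_subgroupOf] at h2
  simpa using h2

end Cfsg.Agent.Lib.Helper24.ES3
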